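import Cfsg.Agent.H129.WForm
import Cfsg.Agent.H129.TorusUntw
import Cfsg.Agent.S1035
import Cfsg.Agent.Lib.FinFast
import Cfsg.Agent.FastGrp
import Cfsg.Agent.Prune
set_option linter.all false
prune_inst 0x7f00000000000000000000000000000000000000000000000000000000000000000000000000000000000000000000000000000000000000000000000000000000000000000000000000000000000000003fffffffffffffffffffffffffffbeffbdffffffff
open scoped Cfsg.Agent.FastGrp

-- part: H351/UnfE7/Comb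
section
/-!
# `E₇`: elements of the Weyl group preserving a parity and the positive even roots (helper351, S3026)

`j = 0, 1, 6` (the fundamental coweights `ω₁, ω₂, ω₇`). An element of the Weyl group preserving the parity of the
`j`-th coefficient and mapping the positive roots with even `j`-th coefficient to positive roots is trivial or one
further element (`j = 0`: trivial): `class0`, `class1`, `class6`.
-/

set_option autoImplicit false
set_option linter.unusedSectionVars false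

namespace Cfsg.Agent.H351.UnfE7

open CoxeterSystem Cfsg Cfsg.Lie Cfsg.Lie.ChevalleyDatum
open Cfsg.Agent.ChevalleyStructure Cfsg.Agent.ChevalleyStructure.CoxeterGeom
  Cfsg.Agent.ChevalleyStructure.CoxeterGeomTypes Cfsg.Agent.ChevalleyStructure.RootVec
open Cfsg.Agent.Tits.Roots Cfsg.Agent.Tits.Core Cfsg.Agent.Nodes Cfsg.Agent.Nodes.Reps Cfsg.Agent.Nodes.BNOf
  Cfsg.Agent.Nodes.RGDChev Cfsg.Agent.Nodes.Bruhat Cfsg.Agent.Nodes.SubComb Cfsg.Agent.Nodes.Coroot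
open Cfsg.Agent.H129.TorusCent Cfsg.Agent.H129.WData Cfsg.Agent.H129.WForm Cfsg.Agent.H129.TorusChar

theorem hp7 : IsType chevE7 7 CoxeterMatrix.E₇ := by simp [IsType, typeList]

/-- the Cartan matrix of `E₇` -/
def A7 : Mat 7 := ![![2, 0, -1, 0, 0, 0, 0], ![0, 2, 0, -1, 0, 0, 0], ![-1, 0, 2, -1, 0, 0, 0],
  ![0, -1, -1, 2, -1, 0, 0], ![0, 0, 0, -1, 2, -1, 0], ![0, 0, 0, 0, -1, 2, -1], ![0, 0, 0, 0, 0, -1, 2]]

theorem hA7 : ∀ i j, A7 i j = cartanOf chevE7 7 i j := by decide +kernel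

def dep7 : Fin 7 → ℕ := ![2, 1, 1, 0, 1, 2, 3]

theorem conn7 : ConnOK A7 3 dep7 := by decide +kernel

abbrev V := Fin 7 → ℤ

/-- the invariant form -/
def ip (x y : V) : ℤ := ∑ i, y i * ∑ j, A7 i j * x j

/-! ### the search -/

/-- all families with prescribed candidates and products -/
def run (cand : Fin 7 → List V) : List (Fin 7) → List (Fin 7 × V) → List (List (Fin 7 × V))
  | [], pre => [pre]
  | i :: is, pre => ((cand i).filter fun v => pre.all fun p => ip v p.2 == A7 p.1 i).flatMap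
      fun v => run cand is ((i, v) :: pre)

theorem run_sound {cand : Fin 7 → List V} {b : Fin 7 → V} (hb : ∀ i, b i ∈ cand i)
    (hip : ∀ i k, ip (b i) (b k) = A7 k i) : ∀ (is : List (Fin 7)) (pre : List (Fin 7 × V)),
    (∀ p ∈ pre, p.2 = b p.1) → ∃ out ∈ run cand is pre, ∀ p ∈ out, p.2 = b p.1 := by
  intro is
  induction is with
  | nil => intro pre h; exact ⟨pre, by simp [run], h⟩
  | cons i is ih =>
    intro pre h
    obtain ⟨out, h1, h2⟩ := ih ((i, b i) :: pre) (by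
      intro p hp
      rcases List.mem_cons.1 hp with rfl | hp
      · rfl
      · exact h p hp)
    refine ⟨out, ?_, h2⟩
    unfold run
    rw [List.mem_flatMap]
    refine ⟨b i, List.mem_filter.2 ⟨hb i, ?_⟩, h1⟩
    rw [List.all_eq_true]
    intro p hp
    rw [beq_iff_eq, h p hp]
    exact hip i p.1

/-- the conclusion of a search with at most two results -/
theorem run_two {cand : Fin 7 → List V} {is : List (Fin 7)} {s₁ s₂ : Fin 7 → V}
    (hc : ∀ out ∈ run cand is [], (∀ i, (i, s₁ i) ∈ out) ∨ (∀ i, (i, s₂ i) ∈ out)) {b : Fin 7 → V}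
    (hb : ∀ i, b i ∈ cand i) (hip : ∀ i k, ip (b i) (b k) = A7 k i) : (∀ i, b i = s₁ i) ∨ ∀ i, b i = s₂ i := by
  obtain ⟨out, h1, h2⟩ := run_sound hb hip is [] (by simp)
  rcases hc out h1 with h | h
  · exact Or.inl fun i => (h2 _ (h i)).symm
  · exact Or.inr fun i => (h2 _ (h i)).symm

/-! ### the even positive roots -/

/-- the indices of the positive roots with even `j`-th coefficient -/
def PI (j : Fin 7) : Finset (Fin chevE7.nroots) :=
  Finset.univ.filter fun r : Fin chevE7.nroots => (∀ i, 0 ≤ vec chevE7 7 (r : ℕ) i) ∧ vec chevE7 7 (r : ℕ) j % 2 = 0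

/-- the positive roots with even `j`-th coefficient -/
def PE (j : Fin 7) : Finset V := (PI j).image fun r : Fin chevE7.nroots => vec chevE7 7 (r : ℕ)

/-- the sum of the positive roots with even `j`-th coefficient -/
def rho (j : Fin 7) : V := (![![2, 17, 18, 32, 27, 20, 11], ![14, 14, 26, 36, 30, 22, 12], 0, 0, 0, 0,
  ![16, 22, 30, 42, 30, 16, 0]] : Fin 7 → V) j

theorem sum_PE (j : Fin 7) : ∑ x ∈ PE j, x = ∑ r ∈ PI j, vec chevE7 7 (r : ℕ) := by
  unfold PE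
  rw [Finset.sum_image]
  intro r _ s _ h
  exact Fin.ext (vec_inj hp7 r.2 s.2 h)

theorem sum_PE0 : ∑ x ∈ PE 0, x = rho 0 := by
  rw [sum_PE]; decide +kernel
theorem sum_PE1 : ∑ x ∈ PE 1, x = rho 1 := by
  rw [sum_PE]; decide +kernel
theorem sum_PE6 : ∑ x ∈ PE 6, x = rho 6 := by
  rw [sum_PE]; decide +kernel

/-- the base of the even roots -/
def B0 : List V := [![0, 1, 0, 0, 0, 0, 0], ![0, 0, 1, 0, 0, 0, 0], ![0, 0, 0, 1, 0, 0, 0], ![0, 0, 0, 0, 1, 0, 0],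
  ![0, 0, 0, 0, 0, 1, 0], ![0, 0, 0, 0, 0, 0, 1], ![2, 2, 3, 4, 3, 2, 1]]
def B1 : List V := [![1, 0, 0, 0, 0, 0, 0], ![0, 0, 1, 0, 0, 0, 0], ![0, 0, 0, 1, 0, 0, 0], ![0, 0, 0, 0, 1, 0, 0],
  ![0, 0, 0, 0, 0, 1, 0], ![0, 0, 0, 0, 0, 0, 1], ![1, 2, 2, 3, 2, 1, 0]]
def B6 : List V := [![1, 0, 0, 0, 0, 0, 0], ![0, 1, 0, 0, 0, 0, 0], ![0, 0, 1, 0, 0, 0, 0], ![0, 0, 0, 1, 0, 0, 0],
  ![0, 0, 0, 0, 1, 0, 0], ![0, 0, 0, 0, 0, 1, 0]]

/-- the condition on the image of the `i`-th simple root -/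
def Cnd (j i : Fin 7) (x : V) : Prop :=
  (if i = j then x j % 2 = 1 else (∀ m, 0 ≤ x m) ∧ x j % 2 = 0) ∧ ip (rho j) x = ip (rho j) (fun m => if m = i then 1 else 0)

instance (j i : Fin 7) (x : V) : Decidable (Cnd j i x) := by unfold Cnd; infer_instance

/-- the candidates for the image of the simple root `j` -/
def O0 : List V := [![-1, -2, -2, -4, -3, -2, -1], ![1, 0, 0, 0, 0, 0, 0]]
def O1 : List V := [![-1, -1, -2, -2, -2, -1, 0], ![-1, -1, -2, -2, -1, -1, -1], ![-1, -1, -1, -2, -2, -1, -1],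
  ![0, -1, -1, -2, -2, -2, -1], ![0, 1, 0, 0, 0, 0, 0]]
def O6 : List V := [![-2, -2, -3, -4, -3, -2, -1], ![0, 0, 0, 0, 0, 0, 1]]

private noncomputable def _root_.Cfsg.Agent.LsF.f5c5721_0 : {f // @Cfsg.Agent.ChevalleyStructure.RootVecTab.dig = f} := ⟨_, by first | (delta Cfsg.Agent.ChevalleyStructure.RootVecTab.dig; rewrite [Cfsg.Agent.LsF.nmul_pat]; exact rfl) | exact rfl⟩
private noncomputable def _root_.Cfsg.Agent.LsF.f5c5721_1 : {f // @Cfsg.Agent.ChevalleyStructure.RootVecTab.packTab = f} := ⟨_, by first | (delta Cfsg.Agent.ChevalleyStructure.RootVecTab.packTab; rewrite [Cfsg.Agent.LsF.instDecEq_eq, Cfsg.Agent.LsF.ite_eq]; exact rfl) | exact rfl⟩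
private noncomputable def _root_.Cfsg.Agent.LsF.f5c5721_2 : {f // @Cfsg.Agent.ChevalleyStructure.RootVecTab.code = f} := ⟨_, by first | (delta Cfsg.Agent.ChevalleyStructure.RootVecTab.code; rewrite [Cfsg.Agent.LsF.f5c5721_1.2, Cfsg.Agent.LsF.nmul_pat, Cfsg.Agent.LsF.npow_pat]; exact rfl) | exact rfl⟩
private noncomputable def _root_.Cfsg.Agent.LsF.f5c5721_3 : {f // @Cfsg.Agent.ChevalleyStructure.RootVec.rt = f} := ⟨_, by first | (delta Cfsg.Agent.ChevalleyStructure.RootVec.rt; rewrite [Cfsg.Agent.LsF.f5c5721_0.2, Cfsg.Agent.LsF.f5c5721_2.2, Cfsg.Agent.LsF.nsub_pat, Cfsg.Agent.LsF.isub_pat, Cfsg.Agent.LsF.icast_pat, Cfsg.Agent.LsF.decLt_eq, Cfsg.Agent.LsF.dAnd_eq, Cfsg.Agent.LsF.ite_eq]; exact rfl) | exact rfl⟩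
private noncomputable def _root_.Cfsg.Agent.LsF.f5c5721_4 : {f // @Cfsg.Agent.Nodes.RGDChev.vec = f} := ⟨_, by first | (delta Cfsg.Agent.Nodes.RGDChev.vec; rewrite [Cfsg.Agent.LsF.f5c5721_3.2]; exact rfl) | exact rfl⟩
private noncomputable def _root_.Cfsg.Agent.LsF.f5c5721_5 : {f // @Cfsg.Agent.H351.UnfE7.A7 = f} := ⟨_, by first | (delta Cfsg.Agent.H351.UnfE7.A7; rewrite [Cfsg.Agent.LsF.ineg_pat, Cfsg.Agent.LsF.vecCons_eq]; exact rfl) | exact rfl⟩
private noncomputable def _root_.Cfsg.Agent.LsF.f5c5721_6 : {f // @Cfsg.Agent.H351.UnfE7.ip = f} := ⟨_, by first | (delta Cfsg.Agent.H351.UnfE7.ip; rewrite [Cfsg.Agent.LsF.sumF_pat, Cfsg.Agent.LsF.f5c5721_5.2, Cfsg.Agent.LsF.iadd_pat, Cfsg.Agent.LsF.imul_pat, Cfsg.Agent.LsF.iACM_eq]; exact rfl) | exact rfl⟩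
private noncomputable def _root_.Cfsg.Agent.LsF.f5c5721_7 : {f // @Cfsg.Agent.H351.UnfE7.rho = f} := ⟨_, by first | (delta Cfsg.Agent.H351.UnfE7.rho; rewrite [Cfsg.Agent.LsF.vecCons_eq]; exact rfl) | exact rfl⟩
private noncomputable def _root_.Cfsg.Agent.LsF.f5c5721_8 : {f // @Cfsg.Agent.H351.UnfE7.O0 = f} := ⟨_, by first | (delta Cfsg.Agent.H351.UnfE7.O0; rewrite [Cfsg.Agent.LsF.ineg_pat, Cfsg.Agent.LsF.vecCons_eq]; exact rfl) | exact rfl⟩
private noncomputable def _root_.Cfsg.Agent.LsF.f5c5721_9 : {f // @Cfsg.Agent.H351.UnfE7.B0 = f} := ⟨_, by first | (delta Cfsg.Agent.H351.UnfE7.B0; rewrite [Cfsg.Agent.LsF.vecCons_eq]; exact rfl) | exact rfl⟩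
theorem cand0 : ∀ i : Fin 7, ∀ r : Fin chevE7.nroots, Cnd 0 i (vec chevE7 7 (r : ℕ)) →
    vec chevE7 7 (r : ℕ) ∈ (if i = 0 then O0 else B0) := by (refine of_decide_eq_true ?_; (try (delta Cfsg.Agent.H351.UnfE7.Cnd Cfsg.Agent.H351.UnfE7.instDecidableCnd; rewrite [Cfsg.Agent.LsF.dPiF_pat, Cfsg.Agent.LsF.dMemE_pat, Cfsg.Agent.LsF.f5c5721_4.2, Cfsg.Agent.LsF.f5c5721_6.2, Cfsg.Agent.LsF.f5c5721_7.2, Cfsg.Agent.LsF.f5c5721_8.2, Cfsg.Agent.LsF.f5c5721_9.2, Cfsg.Agent.LsF.imod_pat, Cfsg.Agent.LsF.instIDecEq_eq, Cfsg.Agent.LsF.idecLe_eq, Cfsg.Agent.LsF.dAnd_eq, Cfsg.Agent.LsF.dFinEq_eq, Cfsg.Agent.LsF.dForallFin_eq, Cfsg.Agent.LsF.dAllP_eq, Cfsg.Agent.LsF.decide_eq])); decide +kernel)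
private noncomputable def _root_.Cfsg.Agent.LsF.f5c5721_10 : {f // @Cfsg.Agent.H351.UnfE7.O1 = f} := ⟨_, by first | (delta Cfsg.Agent.H351.UnfE7.O1; rewrite [Cfsg.Agent.LsF.ineg_pat, Cfsg.Agent.LsF.vecCons_eq]; exact rfl) | exact rfl⟩
private noncomputable def _root_.Cfsg.Agent.LsF.f5c5721_11 : {f // @Cfsg.Agent.H351.UnfE7.B1 = f} := ⟨_, by first | (delta Cfsg.Agent.H351.UnfE7.B1; rewrite [Cfsg.Agent.LsF.vecCons_eq]; exact rfl) | exact rfl⟩
theorem cand1 : ∀ i : Fin 7, ∀ r : Fin chevE7.nroots, Cnd 1 i (vec chevE7 7 (r : ℕ)) →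
    vec chevE7 7 (r : ℕ) ∈ (if i = 1 then O1 else B1) := by (refine of_decide_eq_true ?_; (try (delta Cfsg.Agent.H351.UnfE7.Cnd Cfsg.Agent.H351.UnfE7.instDecidableCnd; rewrite [Cfsg.Agent.LsF.dPiF_pat, Cfsg.Agent.LsF.dMemE_pat, Cfsg.Agent.LsF.f5c5721_4.2, Cfsg.Agent.LsF.f5c5721_6.2, Cfsg.Agent.LsF.f5c5721_7.2, Cfsg.Agent.LsF.f5c5721_10.2, Cfsg.Agent.LsF.f5c5721_11.2, Cfsg.Agent.LsF.imod_pat, Cfsg.Agent.LsF.instIDecEq_eq, Cfsg.Agent.LsF.idecLe_eq, Cfsg.Agent.LsF.dAnd_eq, Cfsg.Agent.LsF.dFinEq_eq, Cfsg.Agent.LsF.dForallFin_eq, Cfsg.Agent.LsF.dAllP_eq, Cfsg.Agent.LsF.decide_eq])); decide +kernel)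
private noncomputable def _root_.Cfsg.Agent.LsF.f5c5721_12 : {f // @Cfsg.Agent.H351.UnfE7.O6 = f} := ⟨_, by first | (delta Cfsg.Agent.H351.UnfE7.O6; rewrite [Cfsg.Agent.LsF.ineg_pat, Cfsg.Agent.LsF.vecCons_eq]; exact rfl) | exact rfl⟩
private noncomputable def _root_.Cfsg.Agent.LsF.f5c5721_13 : {f // @Cfsg.Agent.H351.UnfE7.B6 = f} := ⟨_, by first | (delta Cfsg.Agent.H351.UnfE7.B6; rewrite [Cfsg.Agent.LsF.vecCons_eq]; exact rfl) | exact rfl⟩
theorem cand6 : ∀ i : Fin 7, ∀ r : Fin chevE7.nroots, Cnd 6 i (vec chevE7 7 (r : ℕ)) →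
    vec chevE7 7 (r : ℕ) ∈ (if i = 6 then O6 else B6) := by (refine of_decide_eq_true ?_; (try (delta Cfsg.Agent.H351.UnfE7.Cnd Cfsg.Agent.H351.UnfE7.instDecidableCnd; rewrite [Cfsg.Agent.LsF.dPiF_pat, Cfsg.Agent.LsF.dMemE_pat, Cfsg.Agent.LsF.f5c5721_4.2, Cfsg.Agent.LsF.f5c5721_6.2, Cfsg.Agent.LsF.f5c5721_7.2, Cfsg.Agent.LsF.f5c5721_12.2, Cfsg.Agent.LsF.f5c5721_13.2, Cfsg.Agent.LsF.imod_pat, Cfsg.Agent.LsF.instIDecEq_eq, Cfsg.Agent.LsF.idecLe_eq, Cfsg.Agent.LsF.dAnd_eq, Cfsg.Agent.LsF.dFinEq_eq, Cfsg.Agent.LsF.dForallFin_eq, Cfsg.Agent.LsF.dAllP_eq, Cfsg.Agent.LsF.decide_eq])); decide +kernel)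

/-- the simple roots -/
def id7 : Fin 7 → V := ![![1, 0, 0, 0, 0, 0, 0], ![0, 1, 0, 0, 0, 0, 0], ![0, 0, 1, 0, 0, 0, 0], ![0, 0, 0, 1, 0, 0, 0],
  ![0, 0, 0, 0, 1, 0, 0], ![0, 0, 0, 0, 0, 1, 0], ![0, 0, 0, 0, 0, 0, 1]]
def tw1 : Fin 7 → V := ![![1, 2, 2, 3, 2, 1, 0], ![0, -1, -1, -2, -2, -2, -1], ![0, 0, 0, 0, 0, 0, 1],
  ![0, 0, 0, 0, 0, 1, 0], ![0, 0, 0, 0, 1, 0, 0], ![0, 0, 0, 1, 0, 0, 0], ![0, 0, 1, 0, 0, 0, 0]]
def tw6 : Fin 7 → V := ![![0, 0, 0, 0, 0, 1, 0], ![0, 1, 0, 0, 0, 0, 0], ![0, 0, 0, 0, 1, 0, 0], ![0, 0, 0, 1, 0, 0, 0],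
  ![0, 0, 1, 0, 0, 0, 0], ![1, 0, 0, 0, 0, 0, 0], ![-2, -2, -3, -4, -3, -2, -1]]

private noncomputable def _root_.Cfsg.Agent.LsF.f5c5721_14 : {f // @Cfsg.Agent.H351.UnfE7.run = f} := ⟨_, by first | (delta Cfsg.Agent.H351.UnfE7.run List.brecOn List.brecOn.go Cfsg.Agent.H351.UnfE7.run._f; rewrite [Cfsg.Agent.LsF.f5c5721_6.2, Cfsg.Agent.LsF.f5c5721_5.2, Cfsg.Agent.LsF.ibeq_pat, Cfsg.Agent.LsF.all_eq, Cfsg.Agent.LsF.flatMap_eq, Cfsg.Agent.LsF.filter_eq]; (try delta Cfsg.Agent.H351.UnfE7.run.match_1); (try delta List.casesOn); first | dsimp -zeta only | exact rfl) | exact rfl⟩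
private noncomputable def _root_.Cfsg.Agent.LsF.f5c5721_15 : {f // @Cfsg.Agent.H351.UnfE7.id7 = f} := ⟨_, by first | (delta Cfsg.Agent.H351.UnfE7.id7; rewrite [Cfsg.Agent.LsF.vecCons_eq]; exact rfl) | exact rfl⟩
theorem search0 : ∀ out ∈ run (fun i => if i = 0 then O0 else B0) [2, 3, 4, 5, 6, 1, 0] [],
    (∀ i, (i, id7 i) ∈ out) ∨ (∀ i, (i, id7 i) ∈ out) := by (refine of_decide_eq_true ?_; (try (rewrite [Cfsg.Agent.LsF.dPiF_pat, Cfsg.Agent.LsF.dMemP_pat, Cfsg.Agent.LsF.f5c5721_14.2, Cfsg.Agent.LsF.f5c5721_8.2, Cfsg.Agent.LsF.f5c5721_9.2, Cfsg.Agent.LsF.f5c5721_15.2, Cfsg.Agent.LsF.dProdEq_eq, Cfsg.Agent.LsF.instIDecEq_eq, Cfsg.Agent.LsF.dOr_eq, Cfsg.Agent.LsF.dFinEq_eq, Cfsg.Agent.LsF.dBAll_eq, Cfsg.Agent.LsF.dForallFin_eq, Cfsg.Agent.LsF.ite_eq, Cfsg.Agent.LsF.decide_eq])); decide +kernel)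
private noncomputable def _root_.Cfsg.Agent.LsF.f5c5721_16 : {f // @Cfsg.Agent.H351.UnfE7.tw1 = f} := ⟨_, by first | (delta Cfsg.Agent.H351.UnfE7.tw1; rewrite [Cfsg.Agent.LsF.ineg_pat, Cfsg.Agent.LsF.vecCons_eq]; exact rfl) | exact rfl⟩
theorem search1 : ∀ out ∈ run (fun i => if i = 1 then O1 else B1) [0, 2, 3, 4, 5, 6, 1] [],
    (∀ i, (i, id7 i) ∈ out) ∨ (∀ i, (i, tw1 i) ∈ out) := by (refine of_decide_eq_true ?_; (try (rewrite [Cfsg.Agent.LsF.dPiF_pat, Cfsg.Agent.LsF.dMemP_pat, Cfsg.Agent.LsF.f5c5721_14.2, Cfsg.Agent.LsF.f5c5721_10.2, Cfsg.Agent.LsF.f5c5721_11.2, Cfsg.Agent.LsF.f5c5721_15.2, Cfsg.Agent.LsF.f5c5721_16.2, Cfsg.Agent.LsF.dProdEq_eq, Cfsg.Agent.LsF.instIDecEq_eq, Cfsg.Agent.LsF.dOr_eq, Cfsg.Agent.LsF.dFinEq_eq, Cfsg.Agent.LsF.dBAll_eq, Cfsg.Agent.LsF.dForallFin_eq, Cfsg.Agent.LsF.ite_eq, Cfsg.Agent.LsF.decide_eq])); decide +kernel)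
private noncomputable def _root_.Cfsg.Agent.LsF.f5c5721_17 : {f // @Cfsg.Agent.H351.UnfE7.tw6 = f} := ⟨_, by first | (delta Cfsg.Agent.H351.UnfE7.tw6; rewrite [Cfsg.Agent.LsF.ineg_pat, Cfsg.Agent.LsF.vecCons_eq]; exact rfl) | exact rfl⟩
theorem search6 : ∀ out ∈ run (fun i => if i = 6 then O6 else B6) [0, 2, 3, 4, 5, 1, 6] [],
    (∀ i, (i, id7 i) ∈ out) ∨ (∀ i, (i, tw6 i) ∈ out) := by (refine of_decide_eq_true ?_; (try (rewrite [Cfsg.Agent.LsF.dPiF_pat, Cfsg.Agent.LsF.dMemP_pat, Cfsg.Agent.LsF.f5c5721_14.2, Cfsg.Agent.LsF.f5c5721_12.2, Cfsg.Agent.LsF.f5c5721_13.2, Cfsg.Agent.LsF.f5c5721_15.2, Cfsg.Agent.LsF.f5c5721_17.2, Cfsg.Agent.LsF.dProdEq_eq, Cfsg.Agent.LsF.instIDecEq_eq, Cfsg.Agent.LsF.dOr_eq, Cfsg.Agent.LsF.dFinEq_eq, Cfsg.Agent.LsF.dBAll_eq, Cfsg.Agent.LsF.dForallFin_eq, Cfsg.Agent.LsF.ite_eq, Cfsg.Agent.LsF.decide_eq])); decide +kernel)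

theorem sr_eq (i : Fin 7) : (sr i : V) = fun m => if m = i then 1 else 0 := by
  funext m
  by_cases h : m = i
  · subst h; rw [sr_self, if_pos rfl]
  · rw [sr_ne h, if_neg h]

theorem id7_eq : ∀ i : Fin 7, id7 i = fun m => if m = i then 1 else 0 := by decide +kernel

section

variable {W : Type*} [Group W] (cs : CoxeterSystem CoxeterMatrix.E₇ W)

/-- The hypotheses on `w`. -/
structure Pres (j : Fin 7) (w : W) : Prop where
  par : ∀ x, (rep cs hp7.isCartan w x j) % 2 = x j % 2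
  pos : ∀ a, IsRoot cs hp7.isCartan a → a j % 2 = 0 → 0 ≤ a → 0 ≤ rep cs hp7.isCartan w a

theorem mem_PE {j : Fin 7} {x : V} : x ∈ PE j ↔ IsRoot cs hp7.isCartan x ∧ 0 ≤ x ∧ x j % 2 = 0 := by
  unfold PE PI
  rw [Finset.mem_image]
  constructor
  · rintro ⟨r, hr, rfl⟩
    rw [Finset.mem_filter] at hr
    exact ⟨isRoot_vec hp7 cs r.2, fun i => hr.2.1 i, hr.2.2⟩
  · rintro ⟨h1, h2, h3⟩
    obtain ⟨r, hr, rfl⟩ := (isRoot_iff hp7 cs x).1 h1
    exact ⟨⟨r, hr⟩, Finset.mem_filter.2 ⟨Finset.mem_univ _, fun i => h2 i, h3⟩, rfl⟩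

variable {cs}

theorem Pres.rho_fix {j : Fin 7} {w : W} (h : Pres cs j w) : rep cs hp7.isCartan w (∑ x ∈ PE j, x) = ∑ x ∈ PE j, x := by
  have hsub : (PE j).image (fun x => rep cs hp7.isCartan w x) ⊆ PE j := by
    intro y hy
    obtain ⟨x, hx, rfl⟩ := Finset.mem_image.1 hy
    obtain ⟨h1, h2, h3⟩ := (mem_PE cs).1 hx
    exact (mem_PE cs).2 ⟨h1.act w, h.pos x h1 h3 h2, by rw [h.par, h3]⟩
  have hinj : Function.Injective fun x => rep cs hp7.isCartan w x := by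
    intro x y e
    have e' : rep cs hp7.isCartan w x = rep cs hp7.isCartan w y := e
    rw [← rep_inv_apply cs hp7.isCartan w x, e', rep_inv_apply]
  have he := Finset.eq_of_subset_of_card_le hsub (by rw [Finset.card_image_of_injective _ hinj])
  rw [map_sum]
  conv_rhs => rw [← he]
  rw [Finset.sum_image (fun x _ y _ e => hinj e)]

theorem cpr_ip [Finite W] (x : V) {y : V} (hy : IsRoot cs hp7.isCartan y) : cpr cs hp7.isCartan x y = ip x y :=
  cpr_eq hp7 cs hA7 conn7 x hy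

theorem Pres.cnd [Finite W] {j : Fin 7} {w : W} (h : Pres cs j w) (hrho : ∑ x ∈ PE j, x = rho j) (i : Fin 7) :
    Cnd j i (rep cs hp7.isCartan w (sr i)) := by
  have hr := isRoot_sr cs hp7.isCartan i
  refine ⟨?_, ?_⟩
  · split_ifs with hij
    · subst hij
      rw [h.par, sr_self]
      rfl
    · have h0 : (sr i : V) j % 2 = 0 := by
        rw [sr_ne (Ne.symm hij)]
        rfl
      refine ⟨fun m => ?_, by rw [h.par, h0]⟩
      exact h.pos _ hr h0 (fun m => by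
        rw [sr_eq]
        show (0 : ℤ) ≤ if m = i then 1 else 0
        split_ifs <;> norm_num) m
  · have h1 := h.rho_fix
    rw [hrho] at h1
    rw [← sr_eq, ← cpr_ip (cs := cs) _ (hr.act w), ← cpr_ip (cs := cs) _ hr]
    conv_lhs => rw [← h1]
    exact cpr_rep cs hp7.isCartan w _ hr

theorem Pres.ip [Finite W] (w : W) (i k : Fin 7) :
    ip (rep cs hp7.isCartan w (sr i)) (rep cs hp7.isCartan w (sr k)) = A7 k i := by
  have hr := isRoot_sr cs hp7.isCartan k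
  rw [← cpr_ip (cs := cs) _ (hr.act w), cpr_rep cs hp7.isCartan w _ hr, cpr_sr, pairing_sr, hA7]

theorem Pres.mem [Finite W] {j : Fin 7} {w : W} (h : Pres cs j w) (hrho : ∑ x ∈ PE j, x = rho j) {O B : List V}
    (hc : ∀ i : Fin 7, ∀ r : Fin chevE7.nroots, Cnd j i (vec chevE7 7 (r : ℕ)) →
      vec chevE7 7 (r : ℕ) ∈ (if i = j then O else B)) (i : Fin 7) :
    rep cs hp7.isCartan w (sr i) ∈ (if i = j then O else B) := by
  have h1 := h.cnd hrho i
  obtain ⟨r, hr, e⟩ := (isRoot_iff hp7 cs _).1 ((isRoot_sr cs hp7.isCartan i).act w)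
  rw [← e] at h1 ⊢
  exact hc i ⟨r, hr⟩ h1

/-- the simple roots are fixed -/
theorem eq_refl {w : W} (h : ∀ i, rep cs hp7.isCartan w (sr i) = id7 i) (i : Fin 7) :
    rep cs hp7.isCartan w (sr i) = sr i := by
  rw [h, id7_eq, sr_eq]

theorem class0 [Finite W] {w : W} (h : Pres cs 0 w) : w = 1 := by
  refine ChevalleyStructure.CoxeterGeom.eq_one_of_fix cs hp7.isCartan w fun i => ?_
  rcases run_two search0 (b := fun i => rep cs hp7.isCartan w (sr i)) (h.mem sum_PE0 cand0) (Pres.ip w) with h1 | h1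
  · exact eq_refl h1 i
  · exact eq_refl h1 i

theorem class_two [Finite W] {j : Fin 7} {s : Fin 7 → V} {w₁ w₂ : W}
    (h₁ : (∀ i, rep cs hp7.isCartan w₁ (sr i) = id7 i) ∨ (∀ i, rep cs hp7.isCartan w₁ (sr i) = s i))
    (h₂ : (∀ i, rep cs hp7.isCartan w₂ (sr i) = id7 i) ∨ (∀ i, rep cs hp7.isCartan w₂ (sr i) = s i)) :
    w₁ = 1 ∨ w₂ = 1 ∨ w₁ = w₂ := by
  have key : ∀ {w : W}, (∀ i, rep cs hp7.isCartan w (sr i) = id7 i) → w = 1 := fun h =>
    ChevalleyStructure.CoxeterGeom.eq_one_of_fix cs hp7.isCartan _ fun i => eq_refl h i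
  rcases h₁ with h₁ | h₁
  · exact Or.inl (key h₁)
  rcases h₂ with h₂ | h₂
  · exact Or.inr (Or.inl (key h₂))
  · right; right
    have h3 : w₂⁻¹ * w₁ = 1 := by
      refine ChevalleyStructure.CoxeterGeom.eq_one_of_fix cs hp7.isCartan _ fun i => ?_
      show rep cs hp7.isCartan (w₂⁻¹ * w₁) (sr i) = sr i
      rw [rep_mul_apply, h₁, ← h₂, rep_inv_apply]
    exact (inv_mul_eq_one.1 h3).symm

theorem class1 [Finite W] {w₁ w₂ : W} (h₁ : Pres cs 1 w₁) (h₂ : Pres cs 1 w₂) : w₁ = 1 ∨ w₂ = 1 ∨ w₁ = w₂ :=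
  class_two (j := 1) (run_two search1 (b := fun i => rep cs hp7.isCartan w₁ (sr i)) (h₁.mem sum_PE1 cand1) (Pres.ip w₁))
    (run_two search1 (b := fun i => rep cs hp7.isCartan w₂ (sr i)) (h₂.mem sum_PE1 cand1) (Pres.ip w₂))

theorem class6 [Finite W] {w₁ w₂ : W} (h₁ : Pres cs 6 w₁) (h₂ : Pres cs 6 w₂) : w₁ = 1 ∨ w₂ = 1 ∨ w₁ = w₂ :=
  class_two (j := 6) (run_two search6 (b := fun i => rep cs hp7.isCartan w₁ (sr i)) (h₁.mem sum_PE6 cand6) (Pres.ip w₁))
    (run_two search6 (b := fun i => rep cs hp7.isCartan w₂ (sr i)) (h₂.mem sum_PE6 cand6) (Pres.ip w₂))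

end

end Cfsg.Agent.H351.UnfE7
end

-- part: H351/UnfE7/Desc
section
/-!
# The torus of the finite group (helper351, S3026)

* `mem_TT_of_emb` : an element of `D.group F` whose image in `D.group k` is in the torus is in the torus;
* `parity` : for `t` in the torus of `E₇(k)` and in the image of `E₇(F)`: `cX t (α₂ + α₅ + α₇)` is the square of an
  element of `F`;
* `mul_mem_range` : the image of `E₇(F)`, `|F|` odd, has index at most two in the fixed points (after `H129.HalfT`).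
-/

set_option autoImplicit false
set_option linter.unusedSectionVars false

namespace Cfsg.Agent.H351.UnfE7

open CoxeterSystem Cfsg Cfsg.Lie Cfsg.Lie.ChevalleyDatum
open Cfsg.Agent.ChevalleyStructure Cfsg.Agent.ChevalleyStructure.Elts Cfsg.Agent.ChevalleyStructure.CoxeterGeom
  Cfsg.Agent.ChevalleyStructure.CoxeterGeomTypes Cfsg.Agent.ChevalleyStructure.NPerm
open Cfsg.Agent.Tits.Roots Cfsg.Agent.Tits.Core Cfsg.Agent.Nodes Cfsg.Agent.Nodes.Reps Cfsg.Agent.Nodes.BNOf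
  Cfsg.Agent.Nodes.RGDChev Cfsg.Agent.Nodes.Bruhat Cfsg.Agent.Nodes.SubComb Cfsg.Agent.Nodes.Coroot
open Cfsg.Agent.KFacts.RgdField Cfsg.Agent.KFacts.RgdChevCoord Cfsg.Agent.BpExc.TorCent Cfsg.Agent.BpExc.TorChev
open Cfsg.Agent.GpExc.Field Cfsg.Agent.BpExc.Tow Cfsg.Agent.BpExc.TowChev Cfsg.Agent.BpExc.Fr
  Cfsg.Agent.BpExc.LangFr Cfsg.Agent.LangThm Cfsg.Agent.BpExc Cfsg.Agent.H129.TorusChar Cfsg.Agent.H129.TorusCent
  Cfsg.Agent.H129.TorusTw Cfsg.Agent.H129.TorusMain Cfsg.Agent.H129.TorusUntw Cfsg.Agent.H129.WForm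
  Cfsg.Agent.BpExc.EmbSplit

universe u v

section Desc

variable {D : ChevalleyDatum} {l : ℕ} {M : CoxeterMatrix (Fin l)} (hp : IsType D l M) {F k : Type u} [Field F]
  [Field k] (f : F →+* k)

include hp in
/-- **Descent of the torus**, in `GL`. -/
theorem mem_diagonal_of_glMap {g : GL D.Idx F} (hg : g ∈ D.group F) (h : glMap D f g ∈ D.diagonalSubgroup k) :
    g ∈ D.diagonalSubgroup F := by
  have hD := hp.inList
  obtain ⟨u, hu, m, hm, v, hv, rfl, hmv⟩ := FixNorm.exists_form hD hg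
  have h1 : glMap D f m * glMap D f v * (glMap D f m)⁻¹ ∈ D.negUnipotent k := by
    rw [← map_mul, ← map_inv, ← map_mul]
    exact Emb.glMap_neg hD f hmv
  obtain ⟨h2, h3, h4⟩ := FixNorm.form_unique hD (Emb.glMap_pos hD f hu)
    (Emb.glMap_mono hD f hm) (Emb.glMap_pos hD f hv) h1
    (one_mem (D.posUnipotent k)) (diagonal_le_monomial D k h) (one_mem (D.posUnipotent k))
    (by rw [mul_one, mul_inv_cancel]; exact one_mem _)
    (by rw [one_mul, mul_one, map_mul, map_mul])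
  have hinj := glMap_injective D f
  have hu1 : u = 1 := hinj (by rw [h2, map_one])
  have hv1 : v = 1 := hinj (by rw [h4, map_one])
  subst hu1 hv1
  rw [one_mul, mul_one] at h ⊢
  obtain ⟨w, hw⟩ := exists_rel hp M.toCoxeterSystem hm
  have hw1 : w = 1 := by
    refine ChevalleyStructure.CoxeterGeom.eq_one_of_fix M.toCoxeterSystem hp.isCartan w fun j => ?_
    show rep M.toCoxeterSystem hp.isCartan w (sr j) = sr j
    obtain ⟨s, hs, h5, h6⟩ := hw.conj j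
    obtain ⟨a, ha⟩ := h6 1
    have hj : D.simple j < D.nroots := simple_lt hD (lt_rank hp j)
    -- the image in `GL(k)`
    have h7 := congrArg (glMap D f) ha
    rw [map_mul, map_mul, map_inv, glMap_xG, glMap_xG, map_one] at h7
    obtain ⟨c, hc0, hc⟩ := BNChev.diagonal_conj hD h hj
    rw [hc, mul_one] at h7
    have h8 := congrArg (fun g : GL D.Idx k => (g : Matrix D.Idx D.Idx k) (Sum.inr ⟨D.simple j, hj⟩)
      (Sum.inr ⟨D.neg (D.simple j), neg_lt hD hj⟩)) h7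
    simp only [coe_xG] at h8
    rw [x_entry_self hD hj] at h8
    rw [← h5, ← vec_simple hp j]
    by_contra hne
    rw [x_entry_ne hD hj hs (fun h => hne (by rw [h]))] at h8
    exact hc0 (by simpa using h8)
  subst hw1
  exact mem_of_rel_one hw

include hp in
/-- **Descent of the torus.** -/
theorem mem_TT_of_emb {y : ↥(D.group F)} (h : emb hp.inList f y ∈ TT D k) : y ∈ TT D F := by
  rw [Subgroup.mem_subgroupOf] at h ⊢
  rw [coe_emb] at h
  exact mem_diagonal_of_glMap hp f y.2 h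

/-- the characters of the image of a torus element -/
theorem cX_emb {y : ↥(D.group F)} (hy : y ∈ TT D F) (x : Fin l → ℤ) :
    cX hp (emb hp.inList f y) x = f (cX hp y x) := by
  unfold cX
  rw [map_prod]
  refine Finset.prod_congr rfl fun i _ => ?_
  rw [map_zpow₀, ← vec_simple hp i, emb_ch hp f (simple_lt hp.inList (lt_rank hp i)) hy]

end Desc

section Seven

variable {F k : Type u} [Field F] [Field k] (f : F →+* k)

theorem even_row : ∀ i : Fin 7, (2 : ℤ) ∣ chevE7.cartan i (chevE7.simple 1) + chevE7.cartan i (chevE7.simple 4) +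
    chevE7.cartan i (chevE7.simple 6) := by decide +kernel

/-- the value at `α₂ + α₅ + α₇` of an element of the torus of the finite group -/
theorem square_of_TT {y : ↥(chevE7.group F)} (hy : y ∈ TT chevE7 F) :
    ∃ b : F, cX hp7 y (sr 1) * cX hp7 y (sr 4) * cX hp7 y (sr 6) = b ^ 2 := by
  have hy' := hy
  rw [Subgroup.mem_subgroupOf] at hy'
  obtain ⟨c, hc, -, hact⟩ := Cfsg.Agent.H129.Tor.exists_c hp7 hy'
  have key : ∀ i : Fin 7, cX hp7 y (sr i) = ∏ j ∈ Finset.range chevE7.rank, c j ^ chevE7.cartan j (chevE7.simple i) := by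
    intro i
    have hi : chevE7.simple i < chevE7.nroots := simple_lt hp7.inList (lt_rank hp7 i)
    rw [cX_sr, ← vec_simple hp7 i]
    apply ch_eq hp7 hi hy
    apply Subtype.ext
    rw [Subgroup.coe_mul, Subgroup.coe_mul, Subgroup.coe_inv, coe_xc hp7 hi, coe_xc hp7 hi, hact _ hi, mul_one]
  rw [key, key, key, ← Finset.prod_mul_distrib, ← Finset.prod_mul_distrib]
  have h1 : ∀ j ∈ Finset.range chevE7.rank, ∃ b : F, c j ^ chevE7.cartan j (chevE7.simple (1 : Fin 7)) *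
      c j ^ chevE7.cartan j (chevE7.simple (4 : Fin 7)) * c j ^ chevE7.cartan j (chevE7.simple (6 : Fin 7)) = b ^ 2 := by
    intro j hj
    have hj' : j < 7 := by
      have := Finset.mem_range.1 hj
      rwa [hp7.rank_eq] at this
    obtain ⟨a, ha⟩ := even_row ⟨j, hj'⟩
    have hcj := hc j (Finset.mem_range.1 hj)
    refine ⟨c j ^ a, ?_⟩
    rw [← zpow_add₀ hcj, ← zpow_add₀ hcj]
    have h2 : chevE7.cartan j (chevE7.simple (1 : Fin 7)) + chevE7.cartan j (chevE7.simple (4 : Fin 7)) +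
      chevE7.cartan j (chevE7.simple (6 : Fin 7)) = 2 * a := ha
    rw [h2, mul_comm, zpow_mul]
    norm_cast
  choose! b hb using h1
  exact ⟨∏ j ∈ Finset.range chevE7.rank, b j, by rw [← Finset.prod_pow]; exact Finset.prod_congr rfl hb⟩

/-- **Parity.** -/
theorem parity {t : ↥(chevE7.group k)} (ht : t ∈ TT chevE7 k) (hr : t ∈ (emb hp7.inList f).range) :
    ∃ b : F, cX hp7 t (sr 1) * cX hp7 t (sr 4) * cX hp7 t (sr 6) = f b ^ 2 := by
  obtain ⟨y, rfl⟩ := hr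
  have hy := mem_TT_of_emb hp7 f ht
  obtain ⟨b, hb⟩ := square_of_TT hy
  refine ⟨b, ?_⟩
  rw [cX_emb hp7 f hy, cX_emb hp7 f hy, cX_emb hp7 f hy, ← map_mul, ← map_mul, hb, map_pow]

end Seven

/-! ### the index in the fixed points (copied from `H129.HalfT`) -/

/-- a subgroup of index at most two -/
theorem mul_mem_of_card {Y : Type*} [Group Y] {R S : Subgroup Y} (hRS : R ≤ S) (hS : Finite ↥S)
    (hc : Nat.card ↥S ≤ 2 * Nat.card ↥R) {a b : Y} (ha : a ∈ S) (hb : b ∈ S) (ha' : a ∉ R) (hb' : b ∉ R) :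
    a * b ∈ R := by
  have h1 : Nat.card ↥(R.subgroupOf S) * (R.subgroupOf S).index = Nat.card ↥S := Subgroup.card_mul_index _
  have h2 : Nat.card ↥(R.subgroupOf S) = Nat.card ↥R := Nat.card_congr (Subgroup.subgroupOfEquivOfLe hRS).toEquiv
  rw [h2] at h1
  have hR0 : 0 < Nat.card ↥R := by
    rw [← h2]; exact Nat.card_pos
  have h3 : (R.subgroupOf S).index ≤ 2 := by
    rw [← h1, mul_comm 2] at hc
    exact Nat.le_of_mul_le_mul_left hc hR0
  have h4 : (R.subgroupOf S).index ≠ 0 := Subgroup.index_ne_zero_of_finite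
  have h5 : (R.subgroupOf S).index ≠ 1 := by
    intro h
    apply ha'
    have h6 := Subgroup.index_eq_one.1 h
    have h7 : (⟨a, ha⟩ : ↥S) ∈ R.subgroupOf S := by rw [h6]; trivial
    exact Subgroup.mem_subgroupOf.1 h7
  have h6 : (R.subgroupOf S).index = 2 := by omega
  have h7 := Subgroup.mul_mem_iff_of_index_two h6 (a := ⟨a, ha⟩) (b := ⟨b, hb⟩)
  have h8 : (⟨a, ha⟩ : ↥S) ∉ R.subgroupOf S := fun h => ha' (Subgroup.mem_subgroupOf.1 h)
  have h9 : (⟨b, hb⟩ : ↥S) ∉ R.subgroupOf S := fun h => hb' (Subgroup.mem_subgroupOf.1 h)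
  exact Subgroup.mem_subgroupOf.1 (h7.2 (iff_of_false h8 h9))

section

variable {D : ChevalleyDatum} {l : ℕ} {M : CoxeterMatrix (Fin l)} (hp : IsType D l M)
  {W : Type*} [Group W] (cs : CoxeterSystem M W) {k : Type u} [Field k] [IsAlgClosed k] {p e : ℕ} [Fact p.Prime]
  [CharP k p] {F : Type u} [Field F] [Fintype F] (f : F →+* k)

/-- the fixed points of the torus -/
def Sfix (D : ChevalleyDatum) (k : Type u) [Field k] (σ : MulAut ↥(D.group k)) : Subgroup ↥(D.group k) where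
  carrier := {t | t ∈ TT D k ∧ σ t = t}
  one_mem' := ⟨one_mem _, map_one _⟩
  mul_mem' := fun ha hb => ⟨mul_mem ha.1 hb.1, by rw [map_mul, ha.2, hb.2]⟩
  inv_mem' := fun ha => ⟨inv_mem ha.1, by rw [map_inv, ha.2]⟩

include hp cs f in
theorem card_Sfix (hq : Fintype.card F = p ^ e) : Finite ↥(Sfix D k (phi D k p e)) ∧
    Nat.card ↥(Sfix D k (phi D k p e)) ≤ (Fintype.card F - 1) ^ l := by
  have h1 : ∀ t : ↥(Sfix D k (phi D k p e)), ∃ b : Fin l → Fˣ, ∀ i, f (b i) = cX hp (t : ↥(D.group k)) (sr i) := by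
    intro t
    have h2 : ∀ i : Fin l, ∃ b : Fˣ, f b = cX hp (t : ↥(D.group k)) (sr i) := by
      intro i
      obtain ⟨b, hb⟩ := fix_cX hp cs f hq t.2.1 t.2.2 (sr i)
      have hb0 : b ≠ 0 := by
        rintro rfl
        rw [map_zero] at hb
        exact (isMC_cX hp t.2.1).ne_zero _ hb.symm
      exact ⟨Units.mk0 b hb0, hb⟩
    choose b hb using h2
    exact ⟨b, hb⟩
  choose b hb using h1
  have hinj : Function.Injective b := by
    intro s t hst
    refine Subtype.ext (cX_inj hp s.2.1 t.2.1 fun i => ?_)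
    rw [← hb, ← hb, hst]
  have hfin : Finite (Fin l → Fˣ) := inferInstance
  refine ⟨Finite.of_injective b hinj, (Nat.card_le_card_of_injective b hinj).trans_eq ?_⟩
  classical
  rw [Nat.card_fun, Nat.card_fin, Nat.card_eq_fintype_card, Fintype.card_units]

include cs in
/-- **The image of the finite group has index two in the fixed points.** -/
theorem mul_mem_range (hq : Fintype.card F = p ^ e)
    (hcard : 2 * Nat.card (D.diagonalSubgroup F) = (Fintype.card F - 1) ^ l) {a b : ↥(D.group k)}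
    (ha : phi D k p e a = a) (hb : phi D k p e b = b) (ha' : a ∉ (emb hp.inList f).range)
    (hb' : b ∉ (emb hp.inList f).range) : a * b ∈ (emb hp.inList f).range := by
  obtain ⟨x, t, ht, rfl⟩ := fix_split hp f hq ha
  obtain ⟨y, s, hs, rfl⟩ := fix_split hp f hq hb
  have hft : phi D k p e t = t := by
    rw [map_mul, phi_emb hp f hq] at ha
    exact mul_left_cancel ha
  have hfs : phi D k p e s = s := by
    rw [map_mul, phi_emb hp f hq] at hb
    exact mul_left_cancel hb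
  have ht' : t ∉ (emb hp.inList f).range := fun h => ha' (mul_mem ⟨x, rfl⟩ h)
  have hs' : s ∉ (emb hp.inList f).range := fun h => hb' (mul_mem ⟨y, rfl⟩ h)
  obtain ⟨hfin, hle⟩ := card_Sfix hp cs f (k := k) hq
  have hRS : (TT D F).map (emb hp.inList f) ≤ Sfix D k (phi D k p e) := by
    rintro _ ⟨y, hy, rfl⟩
    exact ⟨emb_T hp f ⟨y, hy, rfl⟩, phi_emb hp f hq y⟩
  have hR : Nat.card ↥((TT D F).map (emb hp.inList f)) = Nat.card (D.diagonalSubgroup F) := by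
    rw [Subgroup.card_map_of_injective (emb_injective hp.inList f)]
    exact Nat.card_congr (Subgroup.subgroupOfEquivOfLe (diagonal_le_group hp.inList F)).toEquiv
  have h1 : t * s ∈ (TT D F).map (emb hp.inList f) := by
    refine mul_mem_of_card hRS hfin (by rw [hR, hcard]; exact hle) ⟨ht, hft⟩ ⟨hs, hfs⟩ (fun h => ht' ?_)
      (fun h => hs' ?_)
    · obtain ⟨z, -, hz⟩ := h; exact ⟨z, hz⟩
    · obtain ⟨z, -, hz⟩ := h; exact ⟨z, hz⟩
  have h2 : t * s ∈ (emb hp.inList f).range := by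
    obtain ⟨z, -, hz⟩ := h1; exact ⟨z, hz⟩
  have h3 : t * emb hp.inList f y * t⁻¹ ∈ (emb hp.inList f).range :=
    Emb.conj_mem_range (F := F) (hD := hp.inList) (f := f) (φ := iterateFrobenius k p e)
      (fun t => by rw [iterateFrobenius_def, hq]) (σ := phi D k p e) coe_phi hft ⟨y, rfl⟩
  have e1 : emb hp.inList f x * t * (emb hp.inList f y * s) =
      emb hp.inList f x * (t * emb hp.inList f y * t⁻¹) * (t * s) := by group
  rw [e1]
  exact mul_mem (mul_mem ⟨x, rfl⟩ h3) h2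

end


section Idx

variable {k : Type u} [Field k] [IsAlgClosed k] {p e : ℕ} [Fact p.Prime] [CharP k p] {F : Type u} [Field F] [Fintype F]
  (f : F →+* k)

/-- **Index two.** -/
theorem mul_mem_range7 (hq : Fintype.card F = p ^ e) (hodd : Odd (Fintype.card F)) {a b : ↥(chevE7.group k)}
    (ha : phi chevE7 k p e a = a) (hb : phi chevE7 k p e b = b) (ha' : a ∉ (emb hp7.inList f).range)
    (hb' : b ∉ (emb hp7.inList f).range) : a * b ∈ (emb hp7.inList f).range := by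
  refine mul_mem_range hp7 CoxeterMatrix.E₇.toCoxeterSystem f hq ?_ ha hb ha' hb'
  have h1 := Cfsg.Agent.S1035.result (F := F) rfl (chevE7, Nat.gcd 2 (Fintype.card F - 1)) (by simp)
  have h2 : Nat.gcd 2 (Fintype.card F - 1) = 2 := by
    obtain ⟨m, hm⟩ := hodd
    rw [hm]
    exact Nat.gcd_eq_left (by omega)
  simp only [h2] at h1
  rw [h1]
  rfl

end Idx

end Cfsg.Agent.H351.UnfE7
end

private theorem dce_59bfcf2a2de7 : _root_.True := by
  try have : _root_.True := by simp only [_root_.Cfsg.Agent.H351.UnfE7.run.eq_def]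
  try have : _root_.True := by simp only [_root_.Cfsg.Agent.H351.UnfE7.run.eq_2]
  try have : _root_.True := by simp only [_root_.Cfsg.Agent.GpExc.Field.emb.congr_simp]
  try have : _root_.True := by simp only [_root_.Cfsg.Agent.H351.UnfE7.run.eq_1]
  exact _root_.True.intro
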